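import Cfsg.Agent.H93.RC.Defs
import Cfsg.Agent.H380.RC.Rules
import Cfsg.Agent.ClassicalGeometry.OrthAut2

/-!
# S3510, row F, box F1: the long root rule for orthogonal groups
-/

set_option autoImplicit false
open Cfsg

namespace Cfsg.Agent.H297.RC

open QuadraticMap MulAction
open Cfsg.Agent.LieClassical.OrthCore Cfsg.Agent.LieClassical.OrthTrans
open Cfsg.Agent.LieClassical.OrthSimple Cfsg.Agent.ClassicalGeometry.OrthSemi
open Cfsg.Agent.ClassicalGeometry.OrthAut1 Cfsg.Agent.H106.RC Cfsg.Agent.H93.RC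
open Cfsg.Agent.AutOrth.SemiSim (sg sg_mul sg_congr sg_zero ext_E sg_apply)

section plane

variable {F V : Type*} [Field F] [AddCommGroup V] [Module F V] {Q : QuadraticForm F V}

theorem ts_pair {u w : V} (hu : Q u = 0) (hw : Q w = 0) (huw : polar Q u w = 0) :
    TS Q (Submodule.span F {u, w}) := by
  intro v hv
  obtain ⟨a, b, rfl⟩ := Submodule.mem_span_pair.1 hv
  rw [Q_add, QuadraticMap.map_smul, QuadraticMap.map_smul, hu, hw, polar_smul_left, polar_smul_right, huw]
  simp

theorem perp_pair {u w v : V} : (∀ l ∈ Submodule.span F {u, w}, polar Q l v = 0) ↔ polar Q u v = 0 ∧ polar Q w v = 0 := by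
  constructor
  · intro h
    exact ⟨h u (Submodule.subset_span (by simp)), h w (Submodule.subset_span (by simp))⟩
  · rintro ⟨h1, h2⟩ l hl
    obtain ⟨a, b, rfl⟩ := Submodule.mem_span_pair.1 hl
    rw [polar_add_left, polar_smul_left, polar_smul_left, h1, h2]
    simp

theorem finrank_pair_le (u w : V) : Module.finrank F (Submodule.span F {u, w}) ≤ 2 := by
  classical
  have h := finrank_span_finset_le_card (R := F) ({u, w} : Finset V)
  rw [Finset.coe_pair] at h
  exact h.trans Finset.card_le_two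

theorem finrank_pair {l m : V} (hl : l ≠ 0) (hm : ∀ a : F, m ≠ a • l) :
    Module.finrank F (Submodule.span F {l, m}) = 2 := by
  have h1 : LinearIndependent F ![l, m] := by
    rw [LinearIndependent.pair_iff' hl]
    intro a ha
    exact hm a ha.symm
  have h2 := finrank_span_eq_card h1
  rw [Matrix.range_cons, Matrix.range_cons, Matrix.range_empty, Set.union_empty, Set.singleton_union] at h2
  simpa using h2

/-- a vector of the perpendicular space outside the plane -/
theorem exists_out [FiniteDimensional F V] (hd : 5 ≤ Module.finrank F V) (u w : V) :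
    ∃ b, (polar Q u b = 0 ∧ polar Q w b = 0) ∧ b ∉ Submodule.span F {u, w} := by
  by_contra hcon
  push Not at hcon
  let φ : V →ₗ[F] F × F := (polarBilin Q u).prod (polarBilin Q w)
  have h1 : LinearMap.ker φ ≤ Submodule.span F {u, w} := by
    intro v hv
    have h2 : (polar Q u v, polar Q w v) = ((0 : F), (0 : F)) := hv
    exact hcon v ⟨congrArg Prod.fst h2, congrArg Prod.snd h2⟩
  have h2 := LinearMap.finrank_range_add_finrank_ker φ
  have h3 : Module.finrank F (LinearMap.range φ) ≤ 2 := by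
    have := Submodule.finrank_le (LinearMap.range φ)
    rwa [Module.finrank_prod, Module.finrank_self] at this
  have h4 := Submodule.finrank_mono h1
  have h5 := finrank_pair_le (F := F) u w
  omega

theorem ind_symm {u w : V} (hu0 : u ≠ 0) (hind : ∀ a : F, w ≠ a • u) (a : F) : u ≠ a • w := by
  intro h
  by_cases ha : a = 0
  · rw [ha, zero_smul] at h; exact hu0 h
  · exact hind a⁻¹ (by rw [h, smul_smul, inv_mul_cancel₀ ha, one_smul])

/-- the double perpendicular of a plane -/
theorem mem_of_perp (hQ : Nondeg Q) {u w : V} (hu0 : u ≠ 0) (hind : ∀ a : F, w ≠ a • u) {v : V}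
    (h : ∀ b, polar Q u b = 0 → polar Q w b = 0 → polar Q v b = 0) : v ∈ Submodule.span F {u, w} := by
  obtain ⟨w', h1, h2⟩ := exists_sep hQ hind
  obtain ⟨u', h3, h4⟩ := exists_sep hQ (ind_symm hu0 hind)
  have h5 : v - polar Q v u' • u - polar Q v w' • w = 0 := by
    apply hQ
    intro y
    have h6 := h (y - polar Q u y • u' - polar Q w y • w') (by
      rw [polar_sub_right, polar_sub_right, polar_smul_right, polar_smul_right, h4, h1]
      simp) (by
      rw [polar_sub_right, polar_sub_right, polar_smul_right, polar_smul_right, h3, h2]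
      simp)
    rw [polar_sub_right, polar_sub_right, polar_smul_right, polar_smul_right] at h6
    rw [polar_sub_left, polar_sub_left, polar_smul_left, polar_smul_left]
    simp only [smul_eq_mul] at h6 ⊢
    linear_combination h6
  refine Submodule.mem_span_pair.2 ⟨polar Q v u', polar Q v w', ?_⟩
  rw [sub_sub, sub_eq_zero] at h5
  exact h5.symm

/-- a vector of the perpendicular space not orthogonal to a given vector outside the plane -/
theorem exists_b (hQ : Nondeg Q) {u w : V} (hu0 : u ≠ 0) (hind : ∀ a : F, w ≠ a • u) {v : V}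
    (hv : v ∉ Submodule.span F {u, w}) (s : F) : ∃ b, polar Q u b = 0 ∧ polar Q w b = 0 ∧ polar Q v b = s := by
  by_contra hcon
  push Not at hcon
  apply hv
  apply mem_of_perp hQ hu0 hind
  intro b h1 h2
  by_contra h3
  apply hcon ((s * (polar Q v b)⁻¹) • b)
  · rw [polar_smul_right, h1, smul_zero]
  · rw [polar_smul_right, h2, smul_zero]
  · rw [polar_smul_right, smul_eq_mul, mul_assoc, inv_mul_cancel₀ h3, mul_one]

open Classical in
/-- total version of the Siegel elements -/
noncomputable def ss (Q : QuadraticForm F V) (l b : V) : ↥(E Q) :=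
  if h : Q l = 0 ∧ polar Q l b = 0 then sg Q l b h.1 h.2 else 1

theorem ss_eq {l b : V} (hl : Q l = 0) (hb : polar Q l b = 0) : ss Q l b = sg Q l b hl hb := by
  unfold ss
  rw [dif_pos ⟨hl, hb⟩]

theorem ss_add {l b b' : V} (hl : Q l = 0) (hb : polar Q l b = 0) (hb' : polar Q l b' = 0) :
    ss Q l (b + b') = ss Q l b * ss Q l b' := by
  have h : polar Q l (b + b') = 0 := by rw [polar_add_right, hb, hb', add_zero]
  rw [ss_eq hl hb, ss_eq hl hb', ss_eq hl h, sg_mul]

theorem ss_zero {l : V} (hl : Q l = 0) : ss Q l 0 = 1 := by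
  rw [ss_eq hl (by simp)]
  exact sg_zero hl _

theorem ss_neg {l b : V} (hl : Q l = 0) (hb : polar Q l b = 0) : ss Q l (-b) = (ss Q l b)⁻¹ := by
  rw [eq_inv_iff_mul_eq_one, ← ss_add hl (by rw [polar_neg_right, hb, neg_zero]) hb, neg_add_cancel, ss_zero hl]

theorem ss_mem {L : Submodule F V} (hT : TS Q L) {l b : V} (hl : l ∈ L) (hb : ∀ v ∈ L, polar Q v b = 0) :
    ss Q l b ∈ U Q L := by
  rw [ss_eq (hT l hl) (hb l hl)]
  exact ClassicalGeometry.OrthAut2.sg_mem_U hT hl (fun v hv => by rw [polar_comm]; exact hb v hv) _ _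

/-- conjugation of Siegel elements of the radical -/
theorem ss_cj {L : Submodule F V} (hT : TS Q L) {l l' b b' : V} (hl : l ∈ L) (hl' : l' ∈ L)
    (hb : ∀ v ∈ L, polar Q v b = 0) (hb' : ∀ v ∈ L, polar Q v b' = 0) :
    ss Q l b * ss Q l' b' * (ss Q l b)⁻¹ = ss Q l' b' * ss Q l' (-(polar Q b b') • l) := by
  have h0 : polar Q l' (-(polar Q b b') • l) = 0 := by rw [polar_smul_right, hT.polar hl' hl, smul_zero]
  rw [← ss_add (hT l' hl') (hb' l' hl') h0]
  have e1 : (sg Q l b (hT l hl) (hb l hl) : V ≃ₗ[F] V) l' = l' := by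
    rw [sg_apply, hT.polar hl hl', polar_comm Q b l', hb l' hl']
    simp
  have e2 : (sg Q l b (hT l hl) (hb l hl) : V ≃ₗ[F] V) b' = b' + -(polar Q b b') • l := by
    rw [sg_apply, hb' l hl]
    module
  have h1 : Q ((sg Q l b (hT l hl) (hb l hl) : V ≃ₗ[F] V) l') = 0 := by rw [e1]; exact hT l' hl'
  have h2 : polar Q ((sg Q l b (hT l hl) (hb l hl) : V ≃ₗ[F] V) l')
      ((sg Q l b (hT l hl) (hb l hl) : V ≃ₗ[F] V) b') = 0 := by
    rw [e1, e2, polar_add_right, hb' l' hl', h0, add_zero]
  have h3 : polar Q l' (b' + -(polar Q b b') • l) = 0 := by rw [polar_add_right, hb' l' hl', h0, add_zero]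
  rw [ss_eq (hT l hl) (hb l hl), ss_eq (hT l' hl') (hb' l' hl'), ss_eq (hT l' hl') h3,
    Cfsg.Agent.AutOrth.SemiSim.conj_sg _ (hT l' hl') (hb' l' hl') h1 h2]
  exact sg_congr _ _ _ _ e1 e2

/-- the semisimilitudes -/
theorem conjE_ss {M : Gam Q} {σ : F ≃+* F} {c : F} (hM : IsSS Q σ c M.1) {l b : V} (hl : Q l = 0)
    (hb : polar Q l b = 0) : conjE Q M (ss Q l b) = ss Q (M.1 l) (c⁻¹ • M.1 b) := by
  obtain ⟨h1, h2, h3⟩ := conjLin_siegel M hM hl hb
  rw [ss_eq hl hb, ss_eq h1 h2]
  exact Subtype.ext h3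

end plane

section main

variable {F V : Type*} [Field F] [Finite F] [AddCommGroup V] [Module F V] [FiniteDimensional F V]
  {Q : QuadraticForm F V} {G : Type*} [Group G] {ρ : ↥(E Q) →* G}

/-- the inverse preserves the plane as well -/
theorem inv_mem_of {M : Gam Q} {L : Submodule F V} (hL : ∀ v ∈ L, M.1 v ∈ L) : ∀ v ∈ L, M.1⁻¹ v ∈ L := by
  have : Finite V := Module.finite_of_finite F
  intro v hv
  let f : L → L := fun v => ⟨M.1 v, hL v v.2⟩
  have hf : Function.Injective f := fun a b hab => Subtype.ext (M.1.injective (congrArg Subtype.val hab))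
  obtain ⟨y, hy⟩ := Finite.surjective_of_injective hf ⟨v, hv⟩
  have h1 : M.1 (y : V) = v := congrArg Subtype.val hy
  rw [← h1, Cfsg.Agent.ClassicalGeometry.OrthSemi.inv_apply]
  exact y.2

/-- a semisimilitude preserving `L` normalises the radical -/
theorem conjE_mem_U {M : Gam Q} {L : Submodule F V} (hL : ∀ v ∈ L, M.1 v ∈ L) {g : ↥(E Q)} (hg : g ∈ U Q L) :
    conjE Q M g ∈ U Q L := by
  obtain ⟨σ, c, hS⟩ := M.2
  refine ⟨fun w hw => ?_, fun v hv => ?_⟩
  · rw [coe_conjE, conjLin_apply]
    have h1 := hg.1 _ (inv_mem_of hL w hw)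
    change M.1 ((g : V ≃ₗ[F] V) (M.1⁻¹ w)) = w
    rw [h1, Cfsg.Agent.ClassicalGeometry.OrthSemi.apply_inv]
  · rw [coe_conjE, conjLin_apply]
    have h1 : ∀ w ∈ L, polar Q w (M.1⁻¹ v) = 0 := by
      intro w hw
      have h2 := hS.polar w (M.1⁻¹ v)
      rw [Cfsg.Agent.ClassicalGeometry.OrthSemi.apply_inv, hv _ (hL w hw)] at h2
      rcases mul_eq_zero.1 h2.symm with h3 | h3
      · exact absurd h3 hS.ne
      · exact (map_eq_zero σ).1 h3
    have h2 := hL _ (hg.2 _ h1)
    rw [hS.sub, Cfsg.Agent.ClassicalGeometry.OrthSemi.apply_inv] at h2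
    exact h2

/-- the main step: the root element is in the commutator group -/
theorem lr_mem (hG : Good Q) {x : G} {M : Gam Q} (hl : Lf ρ x M) {u w : V} (hu : Q u = 0) (hw : Q w = 0)
    (huw : polar Q u w = 0) (hu0 : u ≠ 0) (hind : ∀ a : F, w ≠ a • u)
    (hL : ∀ v ∈ Submodule.span F {u, w}, M.1 v ∈ Submodule.span F {u, w}) (hM : ¬ IsScal M) {p r : ℕ}
    [CharP F p] (hr : r.Prime) (hrp : r ≠ p) (hMr : IsScal (M ^ r)) :
    ρ (sg Q u w hu huw) ∈ H380.RC.cmm ((U Q (Submodule.span F {u, w})).map ρ) x := by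
  obtain ⟨σ, c, hS⟩ := M.2
  set L := Submodule.span F {u, w} with hLdef
  have hT : TS Q L := ts_pair hu hw huw
  have huL : u ∈ L := Submodule.subset_span (by simp)
  have hwL : w ∈ L := Submodule.subset_span (by simp)
  rw [← ss_eq hu huw]
  -- the commutator group
  have k1 : ∀ g ∈ U Q L, ρ (g * (conjE Q M g)⁻¹) ∈ H380.RC.cmm ((U Q L).map ρ) x := by
    intro g hg
    have h1 := H380.RC.mem_cmm (U := (U Q L).map ρ) (x := x) (u := ρ g) ⟨g, hg, rfl⟩
    have h2 := hl g⁻¹
    have h3 : ρ g * x * (ρ g)⁻¹ * x⁻¹ = ρ (g * (conjE Q M g)⁻¹) := by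
      rw [map_mul, ← map_inv (conjE Q M), ← h2, map_inv]
      group
    rwa [h3] at h1
  have k2 : ∀ v ∈ U Q L, ∀ z : ↥(E Q), ρ z ∈ H380.RC.cmm ((U Q L).map ρ) x →
      ρ (z⁻¹ * (v * z * v⁻¹)) ∈ H380.RC.cmm ((U Q L).map ρ) x := by
    intro v hv z hz
    have h1 := H380.RC.cmm_conj (x := x) (v := ρ v) (z := ρ z) (U := (U Q L).map ρ) ⟨v, hv, rfl⟩ hz
    have h2 := mul_mem (inv_mem hz) h1
    rwa [← map_inv, ← map_inv, ← map_mul, ← map_mul, ← map_mul] at h2
  have hperpM : ∀ b, (∀ v ∈ L, polar Q v b = 0) → ∀ v ∈ L, polar Q v (M.1 b) = 0 := by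
    intro b hb v hv
    have h1 := hS.polar (M.1⁻¹ v) b
    rw [Cfsg.Agent.ClassicalGeometry.OrthSemi.apply_inv, hb _ (inv_mem_of hL v hv)] at h1
    rw [h1, map_zero, mul_zero]
  have hperp : ∀ {b : V}, polar Q u b = 0 → polar Q w b = 0 → ∀ v ∈ L, polar Q v b = 0 := fun h1 h2 =>
    perp_pair.2 ⟨h1, h2⟩
  have hMnot : ∀ b, b ∉ L → M.1 b ∉ L := by
    intro b hb h
    apply hb
    have := inv_mem_of hL _ h
    rwa [Cfsg.Agent.ClassicalGeometry.OrthSemi.inv_apply] at this
  by_cases hline : ∀ l ∈ L, ∃ a : F, M.1 l = a • l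
  · -- all the lines are fixed
    obtain ⟨a, ha⟩ := hline u huL
    obtain ⟨b, hb⟩ := hline w hwL
    obtain ⟨d, hd⟩ := hline (u + w) (add_mem huL hwL)
    have hind2 : ∀ s t : F, s • u = t • w → s = 0 ∧ t = 0 := by
      intro s t h
      have ht : t = 0 := by
        by_contra ht
        exact hind (t⁻¹ * s) (by rw [mul_smul, h, smul_smul, inv_mul_cancel₀ ht, one_smul])
      rw [ht, zero_smul] at h
      exact ⟨(smul_eq_zero.1 h).resolve_right hu0, ht⟩
    have hab : a = d ∧ b = d := by
      rw [hS.add, ha, hb, smul_add] at hd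
      have h1 : (a - d) • u = (d - b) • w := by
        rw [sub_smul, sub_smul, sub_eq_sub_iff_add_eq_add]
        rw [hd, add_comm]
      obtain ⟨h2, h3⟩ := hind2 _ _ h1
      exact ⟨sub_eq_zero.1 h2, (sub_eq_zero.1 h3).symm⟩
    have hba : b = a := hab.2.trans hab.1.symm
    rw [hba] at hb
    have ha0 : a ≠ 0 := by
      intro h
      rw [h, zero_smul] at ha
      exact hu0 (M.1.injective (ha.trans hS.map_zero.symm))
    -- linear
    have hσ : ∀ t : F, σ t = t := by
      intro t
      obtain ⟨d, hd⟩ := hline (t • u + w) (add_mem (L.smul_mem _ huL) hwL)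
      rw [hS.add, hS.smul, ha, hb, smul_add, smul_smul, smul_smul] at hd
      have h1 : (σ t * a - d * t) • u = (d - a) • w := by
        rw [sub_smul, sub_smul, sub_eq_sub_iff_add_eq_add, hd, add_comm]
      obtain ⟨h2, h3⟩ := hind2 _ _ h1
      have h4 : d = a := sub_eq_zero.1 h3
      rw [h4] at h2
      have h5 : (σ t - t) * a = 0 := by linear_combination h2
      exact sub_eq_zero.1 ((mul_eq_zero.1 h5).resolve_right ha0)
    have hML : ∀ l ∈ L, M.1 l = a • l := by
      intro l hl
      obtain ⟨s, t, rfl⟩ := Submodule.mem_span_pair.1 hl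
      rw [hS.add, hS.smul, hS.smul, ha, hb, hσ, hσ, smul_add, smul_comm a s, smul_comm a t]
    by_cases hex : ∃ b, (∀ v ∈ L, polar Q v b = 0) ∧ b - (a * c⁻¹) • M.1 b ∉ L
    · obtain ⟨b, hbp, hbn⟩ := hex
      set w1 := b - (a * c⁻¹) • M.1 b with hw1
      have hw1p : ∀ v ∈ L, polar Q v w1 = 0 := by
        intro v hv
        rw [hw1, polar_sub_right, hbp v hv, polar_smul_right, hperpM b hbp v hv]
        simp
      -- the element `ss u w1`
      have hz : ρ (ss Q u w1) ∈ H380.RC.cmm ((U Q L).map ρ) x := by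
        have h1 := k1 _ (ss_mem hT huL hbp)
        rw [conjE_ss hS hu (hbp u huL), ha] at h1
        have h2 : ss Q (a • u) (c⁻¹ • M.1 b) = ss Q u ((a * c⁻¹) • M.1 b) := by
          have e1 : polar Q u (M.1 b) = 0 := hperpM b hbp u huL
          have e2 : Q (a • u) = 0 := by rw [QuadraticMap.map_smul, hu, smul_zero]
          have e3 : polar Q (a • u) (c⁻¹ • M.1 b) = 0 := by
            rw [polar_smul_left, polar_smul_right, e1]; simp
          have e4 : polar Q u (a • c⁻¹ • M.1 b) = 0 := by
            rw [polar_smul_right, polar_smul_right, e1]; simp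
          rw [ss_eq e2 e3, mul_smul, ss_eq hu e4]
          exact AutOrth.SemiSim.sg_smul a hu e2 e3 e4
        have e5 : polar Q u ((a * c⁻¹) • M.1 b) = 0 := by
          rw [polar_smul_right, hperpM b hbp u huL, smul_zero]
        rw [h2, ← ss_neg hu e5, ← ss_add hu (hbp u huL) (by rw [polar_neg_right, e5, neg_zero]), ← sub_eq_add_neg] at h1
        exact h1
      obtain ⟨b2, h1, h2, h3⟩ := exists_b hG.nondeg hu0 hind hbn (-1)
      have hb2 := hperp h1 h2
      have h4 := k2 _ (ss_mem hT hwL hb2) _ hz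
      rw [ss_cj hT hwL huL hb2 hw1p, inv_mul_cancel_left, polar_comm Q b2 w1, h3, neg_neg, one_smul] at h4
      exact h4
    · -- then `M` is a scalar
      exfalso
      push Not at hex
      apply hM
      -- `c = a ^ 2`
      obtain ⟨b, hb1, hb2⟩ := exists_out (Q := Q) hG.dim u w
      obtain ⟨b', h1, h2, h3⟩ := exists_b hG.nondeg hu0 hind hb2 1
      have hbp := hperp hb1.1 hb1.2
      have hbp' := hperp h1 h2
      have hca : c = a ^ 2 := by
        have e1 := hex b hbp
        have e2 := hex b' hbp'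
        have e3 := hS.polar b b'
        rw [h3, map_one, mul_one] at e3
        -- `b = κ M b + l`
        set κ := a * c⁻¹ with hκ
        have e4 : polar Q b b' = κ ^ 2 * c := by
          have f1 : b = κ • M.1 b + (b - κ • M.1 b) := by abel
          have f2 : b' = κ • M.1 b' + (b' - κ • M.1 b') := by abel
          have f3 : polar Q (b - κ • M.1 b) (M.1 b') = 0 := hperpM b' hbp' _ e1
          have f4 : polar Q (M.1 b) (b' - κ • M.1 b') = 0 := by
            rw [polar_comm]; exact hperpM b hbp _ e2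
          have f5 : polar Q (b - κ • M.1 b) (b' - κ • M.1 b') = 0 := hT.polar e1 e2
          conv_lhs => rw [f1, f2]
          rw [polar_add_left, polar_add_right, polar_add_right, f5, polar_smul_left, polar_smul_left,
            polar_smul_right, polar_smul_right, f3, f4, e3]
          simp only [smul_eq_mul]
          ring
        rw [h3, hκ] at e4
        have hc0 := hS.ne
        field_simp at e4
        linear_combination e4
      -- the nilpotent map
      have hlin : ∀ (t : F) (v : V), M.1 (t • v) = t • M.1 v := fun t v => by rw [hS.smul, hσ]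
      let T : Module.End F V :=
        { toFun := fun v => a⁻¹ • M.1 v
          map_add' := fun v w => by rw [hS.add, smul_add]
          map_smul' := fun t v => by rw [hlin, smul_comm]; rfl }
      have hTa : ∀ v, T v = a⁻¹ • M.1 v := fun _ => rfl
      have t1 : ∀ v ∈ L, (T - 1) v = 0 := by
        intro v hv
        show T v - v = 0
        rw [hTa, hML v hv, smul_smul, inv_mul_cancel₀ ha0, one_smul, sub_self]
      have hκa : a * c⁻¹ = a⁻¹ := by rw [hca]; field_simp
      have t2 : ∀ v, (∀ l ∈ L, polar Q l v = 0) → (T - 1) v ∈ L := by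
        intro v hv
        show T v - v ∈ L
        have := hex v hv
        rw [hκa] at this
        rw [hTa, ← neg_sub]
        exact L.neg_mem this
      have t3 : ∀ v, ∀ l ∈ L, polar Q l ((T - 1) v) = 0 := by
        intro v l hl
        show polar Q l (T v - v) = 0
        rw [polar_sub_right, hTa, polar_smul_right]
        have e1 := hS.polar l v
        rw [hML l hl, polar_smul_left, hσ, hca] at e1
        have e2 : polar Q l (M.1 v) = a * polar Q l v := by
          have : a * (polar Q l (M.1 v) - a * polar Q l v) = 0 := by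
            simp only [smul_eq_mul] at e1
            linear_combination e1
          exact sub_eq_zero.1 ((mul_eq_zero.1 this).resolve_left ha0)
        rw [e2, smul_eq_mul, ← mul_assoc, inv_mul_cancel₀ ha0, one_mul, sub_self]
      have hN3 : (T - 1) ^ 3 = 0 := by
        ext v
        show (T - 1) ((T - 1) ((T - 1) v)) = 0
        exact t1 _ (t2 _ (t3 v))
      -- `T ^ r = 1`
      have hTn : ∀ (n : ℕ) (v : V), (T ^ n) v = (a⁻¹) ^ n • (M ^ n).1 v := by
        intro n
        induction n with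
        | zero => intro v; simp
        | succ n ih =>
          intro v
          rw [pow_succ, Module.End.mul_apply, hTa, map_smul, ih, smul_smul, ← pow_succ', pow_succ M]
          rfl
      obtain ⟨μ, hμ0, hμ⟩ := hMr
      have hTr : T ^ r = 1 := by
        have h5 : ∀ v, (T ^ r) v = ((a⁻¹) ^ r * μ) • v := by
          intro v
          rw [hTn, hμ, smul_smul]
        have h6 : (T ^ r) u = u := by
          have : ∀ n : ℕ, (T ^ n) u = u := by
            intro n
            induction n with
            | zero => rfl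
            | succ n ih =>
              rw [pow_succ, Module.End.mul_apply]
              have := t1 u huL
              have h7 : T u = u := sub_eq_zero.1 this
              rw [h7, ih]
          exact this r
        have h7 : ((a⁻¹) ^ r * μ) = 1 := by
          have := h5 u
          rw [h6] at this
          have h8 : (((a⁻¹) ^ r * μ) - 1) • u = 0 := by rw [sub_smul, one_smul, ← this, sub_self]
          exact sub_eq_zero.1 ((smul_eq_zero.1 h8).resolve_right hu0)
        ext v
        rw [h5, h7, one_smul]; rfl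
      have hp : p.Prime := CharP.char_is_prime F p
      have hpf : Fact p.Prime := ⟨hp⟩
      have hTp : T ^ (p ^ 2) = 1 := by
        have hpp : 3 ≤ p ^ 2 := by
          have := hp.two_le
          nlinarith
        have hnt : Nontrivial V := ⟨u, 0, hu0⟩
        have hch : CharP (Module.End F V) p :=
          charP_of_injective_algebraMap (FaithfulSMul.algebraMap_injective F (Module.End F V)) p
        have e : T = (T - 1) + 1 := by abel
        have hcc : Commute (T - 1) (1 : Module.End F V) := Commute.one_right _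
        rw [e, add_pow_char_pow_of_commute p 2 hcc, one_pow, pow_eq_zero_of_le hpp hN3, zero_add]
      have hT1 : T = 1 := by
        have h5 := pow_gcd_eq_one.2 ⟨hTr, hTp⟩
        have h6 : Nat.gcd r (p ^ 2) = 1 := by
          apply Nat.Coprime.pow_right
          exact (Nat.coprime_primes hr hp).2 hrp
        rwa [h6, pow_one] at h5
      refine ⟨a, ha0, fun v => ?_⟩
      have h5 : T v = v := by rw [hT1]; rfl
      rw [hTa] at h5
      rw [← h5, smul_smul, mul_inv_cancel₀ ha0, one_smul, h5]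
  · -- a line which is not fixed
    push Not at hline
    obtain ⟨l, hlL, hl2⟩ := hline
    set m := M.1 l with hm
    have hmL : m ∈ L := hL l hlL
    have hl0 : l ≠ 0 := by
      rintro rfl
      apply hl2 0
      rw [hm, hS.map_zero, smul_zero]
    -- `L = ⟨l, m⟩`
    have hLlm : Submodule.span F {l, m} = L := by
      apply Submodule.eq_of_le_of_finrank_le
      · rw [Submodule.span_le]
        rintro v (hv | hv)
        · rw [hv]; exact hlL
        · rw [Set.mem_singleton_iff.1 hv]; exact hmL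
      · rw [finrank_pair hl0 hl2]
        exact finrank_pair_le u w
    -- a vector in the perpendicular space outside
    obtain ⟨b, hb1, hb2⟩ := exists_out (Q := Q) hG.dim u w
    have hbp := hperp hb1.1 hb1.2
    have hcb : c⁻¹ • M.1 b ∉ Submodule.span F {u, w} := by
      intro h
      apply hMnot b hb2
      have := L.smul_mem c h
      rwa [smul_smul, mul_inv_cancel₀ hS.ne, one_smul] at this
    have hMbp : ∀ v ∈ L, polar Q v (c⁻¹ • M.1 b) = 0 := by
      intro v hv
      rw [polar_smul_right, hperpM b hbp v hv, smul_zero]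
    -- coordinates of `u`, `w`
    obtain ⟨α, β, huc⟩ := Submodule.mem_span_pair.1 (hLlm.symm ▸ huL)
    obtain ⟨γ, δ, hwc⟩ := Submodule.mem_span_pair.1 (hLlm.symm ▸ hwL)
    obtain ⟨b2, h1, h2, h3⟩ := exists_b hG.nondeg hu0 hind hcb (β * γ - α * δ)
    have hb2p := hperp h1 h2
    have hz := k1 _ (ss_mem hT hlL hbp)
    rw [conjE_ss hS (hT l hlL) (hbp l hlL)] at hz
    have h4 := k2 _ (ss_mem hT hlL hb2p) _ hz
    -- compute
    have e1 := ss_cj hT hlL hlL hb2p hbp
    have e2 : ss Q l (-(polar Q b2 b) • l) = 1 := by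
      have f1 : polar Q l (-(polar Q b2 b) • l) = 0 := by rw [polar_smul_right, hT.polar hlL hlL, smul_zero]
      rw [ss_eq (hT l hlL) f1]
      refine ext_E fun v => ?_
      rw [sg_apply, QuadraticMap.map_smul, hT l hlL, polar_smul_left]
      simp only [smul_eq_mul]
      show _ = v
      module
    rw [e2, mul_one] at e1
    have e3 := ss_cj hT hlL hmL hb2p hMbp
    have e4 : (ss Q l b * (ss Q m (c⁻¹ • M.1 b))⁻¹)⁻¹ *
        (ss Q l b2 * (ss Q l b * (ss Q m (c⁻¹ • M.1 b))⁻¹) * (ss Q l b2)⁻¹) =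
        ss Q m (c⁻¹ • M.1 b) * (ss Q m (c⁻¹ • M.1 b) * ss Q m (-(polar Q b2 (c⁻¹ • M.1 b)) • l))⁻¹ := by
      rw [← e3]
      have e5 : ss Q l b2 * (ss Q l b * (ss Q m (c⁻¹ • M.1 b))⁻¹) * (ss Q l b2)⁻¹ =
          (ss Q l b2 * ss Q l b * (ss Q l b2)⁻¹) * (ss Q l b2 * ss Q m (c⁻¹ • M.1 b) * (ss Q l b2)⁻¹)⁻¹ := by group
      rw [e5, e1]
      group
    rw [e4] at h4
    have hml : ∀ s : F, polar Q m (s • l) = 0 := fun s => by rw [polar_smul_right, hT.polar hmL hlL, smul_zero]
    rw [polar_comm Q b2, h3, ← ss_add (hT m hmL) (hMbp m hmL) (hml _), ← ss_neg (hT m hmL) (by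
      rw [polar_add_right, hMbp m hmL, hml, add_zero]), ← ss_add (hT m hmL) (hMbp m hmL) (by
      rw [polar_neg_right, polar_add_right, hMbp m hmL, hml, add_zero, neg_zero])] at h4
    have e6 : c⁻¹ • M.1 b + -(c⁻¹ • M.1 b + -(β * γ - α * δ) • l) = (β * γ - α * δ) • l := by module
    rw [e6] at h4
    have e7 : ss Q m ((β * γ - α * δ) • l) = ss Q u w := by
      rw [ss_eq hu huw, ss_eq (hT m hmL) (hml _)]
      refine ext_E fun v => ?_
      rw [sg_apply, sg_apply, QuadraticMap.map_smul, hT l hlL, hw, ← huc, ← hwc]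
      simp only [polar_add_left, polar_smul_left, smul_eq_mul]
      module
    rw [e7] at h4
    exact h4

end main

section box

variable {F V : Type*} [Field F] [Finite F] [AddCommGroup V] [Module F V] [FiniteDimensional F V]
  {Q : QuadraticForm F V} {G Ω : Type*} [Group G] [Finite G] [MulAction G Ω] [Nonempty Ω]
  {N : Subgroup G} {ρ : ↥(E Q) →* G}

/-- **BOX F1 (LR)**: the long root element of the plane `⟨u, w⟩` and commuting `p'`-elements of prime
orders whose lifts preserve the plane. -/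
theorem box_LR (hG : Good Q) (hE : Env G Ω N) (hρ : Rep Q N ρ) {p : ℕ} [CharP F p]
    {ι : Type*} [Finite ι] {y : ι → G} {M : ι → Gam Q} {r : ι → ℕ} (hl : ∀ i, Lf ρ (y i) (M i))
    (hr : ∀ i, (r i).Prime) (hrp : ∀ i, r i ≠ p) (hy : ∀ i, y i ^ r i = 1) (hy1 : ∀ i, y i ≠ 1)
    (hc : ∀ i j, y i * y j = y j * y i) {u w : V} (hu : Q u = 0) (hw : Q w = 0)
    (huw : polar Q u w = 0) (hu0 : u ≠ 0) (hind : ∀ a : F, w ≠ a • u)
    (hL : ∀ i, ∀ v ∈ Submodule.span F {u, w}, (M i).1 v ∈ Submodule.span F {u, w})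
    (hcov : ∀ ω : Ω, ρ (AutOrth.SemiSim.sg Q u w hu huw) • ω = ω ∨ ∃ i, y i • ω = ω) : False := by
  have hp : p.Prime := CharP.char_is_prime F p
  have hpf : Fact p.Prime := ⟨hp⟩
  have hT : TS Q (Submodule.span F {u, w}) := ts_pair hu hw huw
  have huL : u ∈ Submodule.span F {u, w} := Submodule.subset_span (by simp)
  have hwL : w ∈ Submodule.span F {u, w} := Submodule.subset_span (by simp)
  have hpg : IsPGroup p ((U Q (Submodule.span F {u, w})).map ρ) := (isPGroup_U p _).map ρ
  refine H380.RC.not_cov_lr hE hr hy hc (U := (U Q (Submodule.span F {u, w})).map ρ)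
    (y := ρ (sg Q u w hu huw)) hcov ?_ hpg.isNilpotent ?_ ?_ ?_ ?_
  · rintro i _ ⟨g, hg, rfl⟩
    rw [hl i g]
    exact ⟨_, conjE_mem_U (hL i) hg, rfl⟩
  · intro i
    obtain ⟨n, hn⟩ := IsPGroup.iff_card.1 hpg
    rw [hn]
    exact Nat.Coprime.pow_right _ ((Nat.coprime_primes (hr i) hp).2 (hrp i))
  · rintro _ ⟨g, hg, rfl⟩
    rw [← map_mul, ← map_mul]
    congr 1
    have e1 : (g : V ≃ₗ[F] V) u = u := hg.1 u huL
    have e2 : (g : V ≃ₗ[F] V) w = w := hg.1 w hwL
    have h1 := Cfsg.Agent.AutOrth.SemiSim.conj_sg g hu huw (by rw [e1]; exact hu) (by rw [e1, e2]; exact huw)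
    rw [mul_inv_eq_iff_eq_mul] at h1
    rw [h1]
    congr 1
    exact sg_congr _ _ _ _ e1 e2
  · intro h1
    have h2 : sg Q u w hu huw ∈ Subgroup.center ↥(E Q) := by
      rw [← hρ.ker, MonoidHom.mem_ker]; exact h1
    obtain ⟨a, ha⟩ := center_scalar hG h2
    obtain ⟨b, hb⟩ := Cfsg.Agent.AutOrth.SemiSim.mem_line_of_scalar hG.nondeg hu hu0 huw ha
    exact hind b hb
  · intro i
    exact lr_mem hG (hl i) hu hw huw hu0 hind (hL i) (fun h => hy1 i (((hl i).eq_one_iff hG hE hρ).2 h)) (hr i) (hrp i)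
      ((hl i).pow_scal hG hρ (hy i))

end box

end Cfsg.Agent.H297.RC
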